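/-
Cohomology under an automorphism or endomorphism of the ground field; dominant maps of curves are finite.
-/
import Groth.Agent.CurveFrob.Basic
import Groth.Agent.CurveOmega.General
import Groth.Agent.CurveVA.Criterion
import Groth.Agent.CurveDiv.Basic

set_option autoImplicit false
set_option linter.style.haveILetI false
set_option backward.isDefEq.respectTransparency false
set_option backward.isDefEq.respectTransparency.types false

universe u

open CategoryTheory CategoryTheory.Limits AlgebraicGeometry

noncomputable section

namespace Groth.Agent.GenusInsep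

variable {k : Type u} [Field k]

/-- Cohomology of the structure module under base change along a field embedding. -/
theorem h_twist' {K : Type u} [Field K] (φ : k →+* K) {X X' : Scheme.{u}} [X.Over (Spec (CommRingCat.of k))]
    [X'.Over (Spec (CommRingCat.of K))] [IsProper (X ↘ Spec (CommRingCat.of k))] (g : X' ⟶ X)
    (h : IsPullback g (X' ↘ Spec (CommRingCat.of K)) (X ↘ Spec (CommRingCat.of k)) (Spec.map (CommRingCat.ofHom φ)))
    (i : ℕ) : CurveRR.h K (Coh.structureModule X') i = CurveRR.h k (Coh.structureModule X) i := by
  haveI := CurveRR.isNoetherian_of_proper k X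
  letI := φ.toAlgebra
  obtain ⟨e⟩ := W7FlatBC.nonempty_hh_baseChange k K g h (Coh.structureModule X) RefStalk.isCoh_structureModule.1 i
  rw [← CurveRR.h_eq_of_iso (PicLoc.pullbackStructureIso g) i]
  exact e.finrank_eq.symm.trans (Module.finrank_baseChange (R := K))

/-- Cohomology of the structure module under base change along an endomorphism of the field. -/
theorem h_twist (φ : k →+* k) {X X' : Scheme.{u}} [X.Over (Spec (CommRingCat.of k))] [X'.Over (Spec (CommRingCat.of k))]
    [IsProper (X ↘ Spec (CommRingCat.of k))] (g : X' ⟶ X)
    (h : IsPullback g (X' ↘ Spec (CommRingCat.of k)) (X ↘ Spec (CommRingCat.of k)) (Spec.map (CommRingCat.ofHom φ)))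
    (i : ℕ) : CurveRR.h k (Coh.structureModule X') i = CurveRR.h k (Coh.structureModule X) i :=
  h_twist' φ g h i

/-- A dominant morphism of proper integral curves is finite. -/
theorem isFinite_of_dominant {X Y : Scheme.{u}} [X.Over (Spec (CommRingCat.of k))] [Y.Over (Spec (CommRingCat.of k))]
    [IsIntegral X] [IsIntegral Y] [IsProper (X ↘ Spec (CommRingCat.of k))] [IsProper (Y ↘ Spec (CommRingCat.of k))]
    (hdX : topologicalKrullDim X = 1) (hdY : topologicalKrullDim Y = 1) (f : X ⟶ Y)
    (hf : f ≫ (Y ↘ Spec (CommRingCat.of k)) = X ↘ Spec (CommRingCat.of k))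
    (e : f (genericPoint X) = genericPoint Y) : IsFinite f := by
  haveI := CurveRR.isNoetherian_of_proper k X
  haveI := CurveRR.isNoetherian_of_proper k Y
  haveI : IsProper (f ≫ (Y ↘ Spec (CommRingCat.of k))) := hf.symm ▸ inferInstance
  haveI : IsProper f := IsProper.of_comp f (Y ↘ Spec (CommRingCat.of k))
  haveI : LocallyQuasiFinite f := (locallyQuasiFinite_iff_finite_preimage_singleton (f := f)).2 fun y => by
    by_cases hy : y = genericPoint Y
    · subst hy
      refine (Set.finite_singleton (genericPoint X)).subset fun z hz => ?_
      by_contra hne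
      have hc := f.isClosedMap _ (CurveVA.isClosed_singleton_of_ne_generic (k := k) hdX hne)
      rw [Set.image_singleton, Set.mem_singleton_iff.1 hz] at hc
      exact CurveRR.genericPoint_ne_of_closed (k := k) hdY hc rfl
    · have hc := (CurveVA.isClosed_singleton_of_ne_generic (k := k) hdY hy).preimage f.continuous
      have := CurveDiv.finite_of_forall_isClosed (⊤ : X.Opens) ⟨(f ⁻¹' {y})ᶜ, hc.isOpen_compl⟩
        fun z _ hz => CurveVA.isClosed_singleton_of_ne_generic (k := k) hdX fun h =>
          hy ((Set.mem_singleton_iff.1 (not_not.1 hz)).symm.trans (h ▸ e))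
      exact this.subset fun z hz => ⟨trivial, fun h => h hz⟩
  exact IsFinite.of_isProper_of_locallyQuasiFinite f

end Groth.Agent.GenusInsep

end
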