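/-
The genus does not increase under a finite map of regular proper curves over an algebraically closed field.
-/
import Groth.Agent.GenusInsep.Twist
import Groth.Agent.S11572
import Groth.Agent.S1627
import Groth.Agent.CurveRR.Ample
import Groth.Agent.CurveRR.Deg
import Groth.Agent.GeomProp.SmoothRegular

set_option autoImplicit false
set_option linter.style.haveILetI false
set_option backward.isDefEq.respectTransparency false
set_option backward.isDefEq.respectTransparency.types false

universe u

open CategoryTheory CategoryTheory.Limits AlgebraicGeometry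

noncomputable section

namespace Groth.Agent.GenusInsep

/-- Roots of separable elements are separable along a root embedding. -/
theorem isSeparable_root {L M : Type u} [Field L] [Field M] (φ ψ : L →+* M) (p : ℕ) [Fact p.Prime] [CharP M p]
    (r : ℕ) (hφ : ∀ a, φ a ^ p ^ r = ψ a)
    (hsep : letI := ψ.toAlgebra; ∀ m : M, IsSeparable L (m ^ p ^ r)) :
    letI := φ.toAlgebra
    Algebra.IsSeparable L M := by
  haveI : ExpChar M p := .prime Fact.out
  have hψ : (iterateFrobenius M p r).comp φ = ψ := RingHom.ext fun a => by
    simp [iterateFrobenius_def, hφ]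
  have key : ∀ m : M, ∃ P : Polynomial L, P.Separable ∧ P.eval₂ φ m = 0 := fun m => by
    letI := ψ.toAlgebra
    refine ⟨minpoly L (m ^ p ^ r), hsep m, (iterateFrobenius M p r).injective ?_⟩
    rw [map_zero, Polynomial.hom_eval₂, hψ, iterateFrobenius_def]
    exact minpoly.aeval L (m ^ p ^ r)
  letI := φ.toAlgebra
  refine ⟨fun m => ?_⟩
  obtain ⟨P, hP, hPm⟩ := key m
  exact hP.of_dvd (minpoly.dvd L m hPm)

variable {k : Type u} [Field k]

theorem projective_of_proper [IsAlgClosed k] (X : Scheme.{u}) [X.Over (Spec (CommRingCat.of k))] [IsIntegral X]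
    [IsProper (X ↘ Spec (CommRingCat.of k))] (hdim : topologicalKrullDim X = 1) :
    ∃ (N : ℕ) (i : X ⟶ CohB1.ProjSpace N k), IsClosedImmersion i ∧
      i ≫ CohB1.ProjSpace.toSpec N k = X ↘ (Spec (CommRingCat.of k)) := by
  rcases Groth.Agent.S1627.result k X hdim with h | h
  · exact absurd (@isAffineOpen_top X h) (CurveRR.not_isAffine_of_dim_one (k := k) hdim)
  · exact h

theorem normal_of_regular {X : Scheme.{u}} (h : ∀ x : X, IsRegularLocalRing (X.presheaf.stalk x)) :
    Pi1.IsNormalScheme X := fun x => by
  haveI := h x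
  exact ⟨RegLoc.isDomain (A := X.presheaf.stalk x), RegLoc.isIntegrallyClosed⟩

/-- The arithmetic genus is the genus over an algebraically closed field. -/
theorem pa_eq [IsAlgClosed k] (X : Scheme.{u}) [X.Over (Spec (CommRingCat.of k))] [IsIntegral X]
    [IsProper (X ↘ Spec (CommRingCat.of k))] (hdim : topologicalKrullDim X = 1) :
    1 - Curv2.euler k X (Coh.structureModule X) = (Curv2.genus k X : ℤ) := by
  haveI := CurveRR.isNoetherian_of_proper k X
  rw [CurveRR.euler_eq (k := k) (F := Coh.structureModule X) hdim.le, CurveRR.h0_structure k X]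
  show 1 - (((1 : ℕ) : ℤ) - (CurveRR.h k (Coh.structureModule X) 1 : ℤ)) = (CurveRR.h k (Coh.structureModule X) 1 : ℤ)
  omega

theorem genus_le_of_separable [IsAlgClosed k] (X Y : Scheme.{u}) [X.Over (Spec (CommRingCat.of k))]
    [Y.Over (Spec (CommRingCat.of k))] [IsIntegral X] [IsIntegral Y] [IsProper (X ↘ Spec (CommRingCat.of k))]
    [IsProper (Y ↘ Spec (CommRingCat.of k))] (hdX : topologicalKrullDim X = 1) (hdY : topologicalKrullDim Y = 1)
    (hnX : Pi1.IsNormalScheme X) (hnY : Pi1.IsNormalScheme Y) (f : X ⟶ Y) [IsFinite f]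
    (hf : f ≫ (Y ↘ Spec (CommRingCat.of k)) = X ↘ Spec (CommRingCat.of k))
    (e : f (genericPoint X) = genericPoint Y)
    (hsep : letI := ((Y.presheaf.stalkSpecializes (specializes_of_eq e) ≫ f.stalkMap (genericPoint X)).hom).toAlgebra
      Algebra.IsSeparable Y.functionField X.functionField) :
    Curv2.genus k Y ≤ Curv2.genus k X := by
  have h := Groth.Agent.S11572.result k X Y (projective_of_proper X hdX) (projective_of_proper Y hdY) hdX hdY hnX hnY
    f hf e hsep (by rw [pa_eq X hdX]; exact Int.natCast_nonneg _)
  rw [pa_eq X hdX, pa_eq Y hdY] at h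
  exact_mod_cast h

/-- The genus does not increase under a finite map of regular proper curves. -/
theorem genus_le [IsAlgClosed k] (X Y : Scheme.{u}) [X.Over (Spec (CommRingCat.of k))]
    [Y.Over (Spec (CommRingCat.of k))] [IsIntegral X] [IsIntegral Y] [IsProper (X ↘ Spec (CommRingCat.of k))]
    [IsProper (Y ↘ Spec (CommRingCat.of k))] (hdX : topologicalKrullDim X = 1) (hdY : topologicalKrullDim Y = 1)
    (hnX : Pi1.IsNormalScheme X) (hnY : Pi1.IsNormalScheme Y) (f : X ⟶ Y) [IsFinite f]
    (hf : f ≫ (Y ↘ Spec (CommRingCat.of k)) = X ↘ Spec (CommRingCat.of k))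
    (e : f (genericPoint X) = genericPoint Y) : Curv2.genus k Y ≤ Curv2.genus k X := by
  classical
  letI aX : Algebra k X.functionField := (Curv2.stalkMap k X (genericPoint X)).toAlgebra
  letI aY : Algebra k Y.functionField := (Curv2.stalkMap k Y (genericPoint Y)).toAlgebra
  let ψ : Y.functionField →+* X.functionField :=
    (Y.presheaf.stalkSpecializes (specializes_of_eq e) ≫ f.stalkMap (genericPoint X)).hom
  letI aψ : Algebra Y.functionField X.functionField := ψ.toAlgebra
  have hgen := CurveBir.genHom_eq_of_stalkMap X Y f e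
  have hψk : ψ.comp (Curv2.stalkMap k Y (genericPoint Y)) = Curv2.stalkMap k X (genericPoint X) := by
    have h1 : Spec.map (CommRingCat.ofHom (ψ.comp (Curv2.stalkMap k Y (genericPoint Y)))) =
        Spec.map (CommRingCat.ofHom (Curv2.stalkMap k X (genericPoint X))) := by
      rw [← CurveBir.fromSpecStalk_over, CommRingCat.ofHom_comp, Spec.map_comp, ← CurveBir.fromSpecStalk_over, ← hf,
        ← Category.assoc, ← Category.assoc, ← hgen]
      rfl
    exact congrArg CommRingCat.Hom.hom (Spec.map_injective h1)
  haveI : IsScalarTower k Y.functionField X.functionField := IsScalarTower.of_algebraMap_eq' hψk.symm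
  obtain hc | ⟨p, hp, hpk⟩ := CharP.exists' k
  · haveI : CharZero Y.functionField := charZero_of_injective_algebraMap (algebraMap k Y.functionField).injective
    obtain ⟨hess, htr⟩ := CurveFrob.functionField_facts k X hdX
    obtain ⟨-, htrY⟩ := CurveFrob.functionField_facts k Y hdY
    haveI := hess
    haveI : Algebra.EssFiniteType Y.functionField X.functionField := Algebra.EssFiniteType.of_comp k _ _
    haveI : Algebra.IsAlgebraic Y.functionField X.functionField := by
      have h1 := trdeg_add_eq k Y.functionField (A := X.functionField)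
      rw [htr, htrY] at h1
      rw [← trdeg_eq_zero_iff]
      have h2 : (1 : Cardinal) + Algebra.trdeg Y.functionField X.functionField = 1 + 0 := by rw [add_zero]; exact h1
      exact Cardinal.eq_of_add_eq_add_left h2 Cardinal.one_lt_aleph0
    exact genus_le_of_separable X Y hdX hdY hnX hnY f hf e (by
      show Algebra.IsSeparable Y.functionField X.functionField
      infer_instance)
  haveI := hp
  haveI := hpk
  haveI : ExpChar k p := .prime hp.out
  obtain ⟨hess, htr⟩ := CurveFrob.functionField_facts k X hdX
  obtain ⟨-, htrY⟩ := CurveFrob.functionField_facts k Y hdY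
  haveI := hess
  haveI : CharP X.functionField p := charP_of_injective_ringHom (algebraMap k X.functionField).injective p
  haveI : CharP Y.functionField p := charP_of_injective_ringHom (algebraMap k Y.functionField).injective p
  haveI : ExpChar X.functionField p := .prime hp.out
  haveI : ExpChar Y.functionField p := .prime hp.out
  haveI : Algebra.IsGeometricallyReduced k X.functionField := GeomProp.geomReduced_of_perfectField k X.functionField
  haveI : Algebra.EssFiniteType Y.functionField X.functionField := Algebra.EssFiniteType.of_comp k _ _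
  haveI : Algebra.IsAlgebraic Y.functionField X.functionField := by
    have h1 := trdeg_add_eq k Y.functionField (A := X.functionField)
    rw [htr, htrY] at h1
    rw [← trdeg_eq_zero_iff]
    have h2 : (1 : Cardinal) + Algebra.trdeg Y.functionField X.functionField = 1 + 0 := by rw [add_zero]; exact h1
    exact Cardinal.eq_of_add_eq_add_left h2 Cardinal.one_lt_aleph0
  haveI : FiniteDimensional Y.functionField X.functionField := Algebra.finite_of_essFiniteType_of_isAlgebraic
  let S := separableClosure Y.functionField X.functionField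
  haveI : CharP S p := charP_of_injective_ringHom (algebraMap Y.functionField S).injective p
  haveI : ExpChar S p := .prime hp.out
  haveI : IsPurelyInseparable S X.functionField := separableClosure.isPurelyInseparable _ _
  obtain ⟨r, hr⟩ := IsPurelyInseparable.finrank_eq_pow X.functionField p (F := S)
  -- the powers form exactly the separable closure
  haveI : IsScalarTower k S X.functionField :=
    IsScalarTower.of_algebraMap_eq fun _ => rfl
  let P : IntermediateField k X.functionField :=
    (iterateFrobenius X.functionField p r).fieldRange.toIntermediateField fun c => by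
      obtain ⟨d, hd⟩ := IsAlgClosed.exists_pow_nat_eq c (n := p ^ r) (pow_pos hp.out.pos r)
      exact ⟨algebraMap k X.functionField d, by rw [iterateFrobenius_def, ← map_pow, hd]⟩
  have hPS : P = (IsScalarTower.toAlgHom k S X.functionField).fieldRange := by
    refine FrobDeg.fieldRange_eq p htr S r hr P (fun z ⟨w, hw⟩ => ?_) fun z => ⟨z, iterateFrobenius_def p r z⟩
    obtain ⟨a, ha⟩ := FrobDeg.pow_finrank_mem S p r hr w
    refine ⟨a, ?_⟩
    rw [← hw, iterateFrobenius_def]
    exact ha
  have hroot : ∀ a : Y.functionField, ∃ w : X.functionField, w ^ p ^ r = ψ a := fun a => by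
    have h : ψ a ∈ P := hPS ▸ ⟨algebraMap Y.functionField S a, rfl⟩
    obtain ⟨w, hw⟩ := h
    exact ⟨w, (iterateFrobenius_def p r w).symm.trans hw⟩
  choose w hw using hroot
  have hinj : ∀ a b : X.functionField, a ^ p ^ r = b ^ p ^ r → a = b := fun a b h =>
    iterateFrobenius_inj X.functionField p r (by simpa [iterateFrobenius_def] using h)
  let φ : Y.functionField →+* X.functionField :=
    { toFun := w
      map_one' := hinj _ _ (by rw [hw, map_one, one_pow])
      map_mul' := fun a b => hinj _ _ (by rw [hw, map_mul, mul_pow, hw, hw])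
      map_zero' := hinj _ _ (by rw [hw, map_zero, zero_pow (pow_ne_zero _ hp.out.ne_zero)])
      map_add' := fun a b => hinj _ _ (by rw [hw, map_add, add_pow_char_pow, hw, hw]) }
  have hφ : ∀ a, φ a ^ p ^ r = ψ a := hw
  haveI : PerfectRing k p := PerfectField.toPerfectRing p
  let σ := iterateFrobeniusEquiv k p r
  -- the twisted structure on the source
  let q : X ⟶ Spec (CommRingCat.of k) := (X ↘ Spec (CommRingCat.of k)) ≫ Spec.map (CommRingCat.ofHom σ.symm.toRingHom)
  have hq : q ≫ Spec.map (CommRingCat.ofHom σ.toRingHom) = X ↘ Spec (CommRingCat.of k) := by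
    have h1 : σ.symm.toRingHom.comp σ.toRingHom = RingHom.id k := RingHom.ext fun c => σ.symm_apply_apply c
    rw [Category.assoc, ← Spec.map_comp, ← CommRingCat.ofHom_comp, h1, CommRingCat.ofHom_id, Spec.map_id,
      Category.comp_id]
  haveI : IsIso (CommRingCat.ofHom σ.toRingHom) := inferInstanceAs (IsIso σ.toCommRingCatIso.hom)
  haveI : IsIso (CommRingCat.ofHom σ.symm.toRingHom) := inferInstanceAs (IsIso σ.symm.toCommRingCatIso.hom)
  have hXk : Curv2.stalkMap k X (genericPoint X) = algebraMap k X.functionField := rfl
  have hpbq : IsPullback (𝟙 X) q (X ↘ Spec (CommRingCat.of k)) (Spec.map (CommRingCat.ofHom σ.toRingHom)) :=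
    IsPullback.of_horiz_isIso ⟨by rw [Category.id_comp]; exact hq.symm⟩
  have hgenus : @Curv2.genus k _ X ⟨q⟩ = Curv2.genus k X :=
    @GenusInsep.h_twist k _ σ.toRingHom X X inferInstance ⟨q⟩ inferInstance (𝟙 X) hpbq 1
  have hover : q = (X ↘ Spec (CommRingCat.of k)) ≫ Spec.map (CommRingCat.ofHom σ.symm.toRingHom) := rfl
  have hstalk : Spec.map (CommRingCat.ofHom (φ.comp (Curv2.stalkMap k Y (genericPoint Y)))) =
      X.fromSpecStalk (genericPoint X) ≫ q := by
    rw [hover, ← Category.assoc, CurveBir.fromSpecStalk_over, ← Spec.map_comp, ← CommRingCat.ofHom_comp]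
    congr 2
    refine RingHom.ext fun c => hinj _ _ ?_
    show φ _ ^ _ = ((Curv2.stalkMap k X (genericPoint X)) (σ.symm c)) ^ _
    rw [hφ, ← map_pow, show ψ (Curv2.stalkMap k Y (genericPoint Y) c) = _ from RingHom.congr_fun hψk c]
    congr 1
    exact ((iterateFrobenius_def p r (σ.symm c)).symm.trans (σ.apply_symm_apply c)).symm
  rw [← hgenus]
  letI iX : X.Over (Spec (CommRingCat.of k)) := ⟨q⟩
  haveI : IsProper (X ↘ Spec (CommRingCat.of k)) := inferInstanceAs (IsProper q)
  obtain ⟨u, ⟨hu, hug⟩, -⟩ := CurveBir.existsUnique_hom k X Y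
    (SmoothCompl.ringKrullDim_stalk_eq_one (X ↘ Spec (CommRingCat.of k)) hdX) hnX (CurveBir.genHom X Y φ) (by
      rw [CurveBir.genHom, Category.assoc, CurveBir.fromSpecStalk_over, ← Spec.map_comp, ← CommRingCat.ofHom_comp]
      exact hstalk)
  obtain ⟨hue, huφ⟩ := CurveBir.stalkMap_of_generic X Y φ hug
  haveI := isFinite_of_dominant hdX hdY u hu hue
  refine genus_le_of_separable X Y hdX hdY hnX hnY u hu hue ?_
  rw [huφ]
  refine isSeparable_root φ ψ p r hφ fun m => ?_
  obtain ⟨a, ha⟩ := FrobDeg.pow_finrank_mem S p r hr m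
  have : m ^ p ^ r ∈ S := ha ▸ a.2
  exact mem_separableClosure_iff.1 this

end Groth.Agent.GenusInsep

end
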