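/-
Genus under finite maps of smooth geometrically connected curves over any field.
-/
import Groth.Agent.GenusInsep.Le
import Groth.Agent.CurveRR.Easy

set_option autoImplicit false
set_option linter.style.haveILetI false
set_option backward.isDefEq.respectTransparency false
set_option backward.isDefEq.respectTransparency.types false

universe u

open CategoryTheory CategoryTheory.Limits AlgebraicGeometry
open Groth.Agent.CurveOmega

noncomputable section

namespace Groth.Agent.GenusInsep

variable {k : Type u} [Field k]

theorem apply_genericPoint {X Y : Scheme.{u}} [X.Over (Spec (CommRingCat.of k))] [IsIntegral X] [IsIntegral Y]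
    [Y.Over (Spec (CommRingCat.of k))] [IsProper (X ↘ Spec (CommRingCat.of k))]
    [IsProper (Y ↘ Spec (CommRingCat.of k))] (hdX : topologicalKrullDim X = 1)
    (hdY : topologicalKrullDim Y = 1) (f : X ⟶ Y) [IsFinite f] : f (genericPoint X) = genericPoint Y := by
  by_contra hne
  haveI : JacobsonSpace X := LocallyOfFiniteType.jacobsonSpace (X ↘ Spec (CommRingCat.of k))
  have hc := CurveVA.isClosed_singleton_of_ne_generic (k := k) hdY hne
  have hall : ∀ x : X, f x = f (genericPoint X) := fun x => by
    have h := ((genericPoint_spec X).specializes (show x ∈ (⊤ : Set X) from trivial)).map f.continuous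
    have h2 := h.mem_closure
    rw [hc.closure_eq] at h2
    exact h2
  have hfin : (Set.univ : Set X).Finite := by
    have h1 := IsFinite.finite_preimage_singleton f (f (genericPoint X))
    exact h1.subset fun x _ => hall x
  have hcl : IsClosed (closedPoints X) := by
    rw [← Set.biUnion_of_singleton (closedPoints X)]
    exact (hfin.subset (Set.subset_univ _)).isClosed_biUnion fun x hx => hx
  have hξ : genericPoint X ∈ closedPoints X := by
    rw [← hcl.closure_eq, closure_closedPoints]; trivial
  exact CurveRR.genericPoint_ne_of_closed (k := k) hdX hξ rfl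

theorem facts_bar {X : Scheme.{u}} [X.Over (Spec (CommRingCat.of k))] [IsProper (X ↘ Spec (CommRingCat.of k))]
    [Smooth (X ↘ Spec (CommRingCat.of k))] [GeometricallyConnected (X ↘ Spec (CommRingCat.of k))] :
    IsIntegral (bar k X) ∧ CurveRR.h k (Coh.structureModule X) 0 = 1 := by
  haveI hp : IsProper (bar k X ↘ Spec (CommRingCat.of (AlgebraicClosure k))) :=
    MorphismProperty.of_isPullback (P := @IsProper) (isPullback_bar k X) ‹_›
  haveI hs : Smooth (bar k X ↘ Spec (CommRingCat.of (AlgebraicClosure k))) :=
    MorphismProperty.of_isPullback (P := @Smooth) (isPullback_bar k X) ‹_›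
  haveI : ConnectedSpace (bar k X) :=
    GeometricallyConnected.geometrically_connectedSpace (f := X ↘ Spec (CommRingCat.of k)) _ _ _ (isPullback_bar k X)
  haveI hi : IsIntegral (bar k X) := CurveRR.Easy.isIntegral_of_smooth (k := AlgebraicClosure k)
  exact ⟨hi, (h_bar_structure k X 0).symm.trans (CurveRR.h0_structure (AlgebraicClosure k) (bar k X))⟩

theorem genus_le_smooth {X Y : Scheme.{u}} [X.Over (Spec (CommRingCat.of k))] [Y.Over (Spec (CommRingCat.of k))]
    [IsProper (X ↘ Spec (CommRingCat.of k))] [Smooth (X ↘ Spec (CommRingCat.of k))]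
    [GeometricallyConnected (X ↘ Spec (CommRingCat.of k))]
    [IsProper (Y ↘ Spec (CommRingCat.of k))] [Smooth (Y ↘ Spec (CommRingCat.of k))]
    [GeometricallyConnected (Y ↘ Spec (CommRingCat.of k))]
    (hdX : topologicalKrullDim X = 1) (hdY : topologicalKrullDim Y = 1) (f : X ⟶ Y) [IsFinite f]
    (hf : f ≫ (Y ↘ Spec (CommRingCat.of k)) = X ↘ Spec (CommRingCat.of k)) :
    Curv2.genus k Y ≤ Curv2.genus k X := by
  obtain ⟨hiX, h0X⟩ := facts_bar (k := k) (X := X)
  obtain ⟨hiY, h0Y⟩ := facts_bar (k := k) (X := Y)
  haveI := hiX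
  haveI := hiY
  obtain ⟨hpX, hsX, -, hdXb⟩ := smoothProper_bar k X hdX h0X
  obtain ⟨hpY, hsY, -, hdYb⟩ := smoothProper_bar k Y hdY h0Y
  haveI := hpX
  haveI := hpY
  haveI := hsX
  haveI := hsY
  let g : bar k X ⟶ bar k Y := pullback.lift (barFst k X ≫ f) (pullback.snd _ _)
    (by rw [Category.assoc, hf]; exact pullback.condition)
  have hg : g ≫ (bar k Y ↘ Spec (CommRingCat.of (AlgebraicClosure k))) =
      bar k X ↘ Spec (CommRingCat.of (AlgebraicClosure k)) := pullback.lift_snd _ _ _
  have hsq : IsPullback (barFst k X) g f (barFst k Y) := by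
    refine IsPullback.of_bot ?_ (pullback.lift_fst _ _ _).symm (isPullback_bar k Y)
    rw [hg, hf]
    exact isPullback_bar k X
  haveI : IsFinite g := MorphismProperty.of_isPullback (P := @IsFinite) hsq ‹_›
  have hnX := normal_of_regular fun x => SmLocalST.isRegularLocalRing_stalk_of_smooth_field
    (bar k X ↘ Spec (CommRingCat.of (AlgebraicClosure k))) x
  have hnY := normal_of_regular fun x => SmLocalST.isRegularLocalRing_stalk_of_smooth_field
    (bar k Y ↘ Spec (CommRingCat.of (AlgebraicClosure k))) x
  have h := genus_le (bar k X) (bar k Y) hdXb hdYb hnX hnY g hg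
    (apply_genericPoint (k := AlgebraicClosure k) hdXb hdYb g)
  rwa [genus_bar, genus_bar] at h

end Groth.Agent.GenusInsep

end
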