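/-
A scheme finite over one of dimension at most one has dimension at most one.
-/
import Groth.Agent.AmpleDimOne.Top
import Groth.Agent.Unibranch.ComponentTransfer

set_option autoImplicit false

universe u

open CategoryTheory AlgebraicGeometry

namespace Groth.Agent.GenusInsep

theorem topologicalKrullDim_le_of_finite {X Y : Scheme.{u}} (b : X ⟶ Y) [IsFinite b]
    (hY : topologicalKrullDim Y ≤ 1) : topologicalKrullDim X ≤ 1 := by
  refine Unibranch.topologicalKrullDim_le_natCast (e := 1) fun n s hs => ?_
  by_contra hn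
  push Not at hn
  have hne : ∀ a a' : X, a ⤳ a' → a ≠ a' → b a ≠ b a' := fun a a' h hne he => hne (by
    have hd := b.isDiscrete_preimage_singleton (b a)
    haveI := hd.to_subtype
    have h' : (⟨a, rfl⟩ : b ⁻¹' {b a}) ⤳ ⟨a', he.symm⟩ := (subtype_specializes_iff _ _).2 h
    exact congrArg Subtype.val h'.eq)
  obtain ⟨h1, h1'⟩ := hs ⟨0, by omega⟩
  obtain ⟨h2, h2'⟩ := hs ⟨1, by omega⟩
  rcases AmpleDimOne.eq_or_eq_of_specializes hY (h1.map b.continuous) (h2.map b.continuous) with e | e
  · exact hne _ _ h1 h1' e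
  · exact hne _ _ h2 h2' e

end Groth.Agent.GenusInsep
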